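import Groth.Agent.GrpdSlice.Stalk
import Groth.Agent.Triage.CMMor
import Groth.Agent.S1617
import Groth.Prelude.Def_Flat

/-!
# Rational points of fibres
-/

set_option autoImplicit false
set_option backward.isDefEq.respectTransparency false
set_option backward.isDefEq.respectTransparency.types false

universe u

open AlgebraicGeometry CategoryTheory CategoryTheory.Limits IsLocalRing

namespace Groth.Agent.GrpdSlice

open Groth.Agent.FibFlat (sm sm_self sm_comp sm_congr surjective_sm)

/-- The image of a section over a field is a closed point. -/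
theorem isClosed_section_point {k : Type u} [Field k] {X : Scheme.{u}} (f : X ⟶ Spec (CommRingCat.of k))
    [LocallyOfFiniteType f] (σ : Spec (CommRingCat.of k) ⟶ X) (h : σ ≫ f = 𝟙 _)
    (z : Spec (CommRingCat.of k)) : IsClosed ({σ z} : Set X) := by
  have : JacobsonSpace X := LocallyOfFiniteType.jacobsonSpace f
  have : IsImmersion (σ ≫ f) := by rw [h]; infer_instance
  have : IsImmersion σ := IsImmersion.of_comp σ f
  refine isClosed_singleton_of_isLocallyClosed_singleton ?_
  have hr : Set.range σ = {σ z} := Set.eq_singleton_iff_unique_mem.2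
    ⟨⟨z, rfl⟩, fun _ ⟨w, hw⟩ => hw ▸ congrArg σ (Subsingleton.elim w z)⟩
  exact hr ▸ σ.isLocallyClosed_range

/-- A point given by a section over the residue field is closed in its fibre. -/
theorem eq_of_specializes_of_section {X Y : Scheme.{u}} (f : X ⟶ Y) [LocallyOfFiniteType f] (y : Y)
    (σ : Spec (Y.residueField y) ⟶ X) (h : σ ≫ f = Y.fromSpecResidueField y) (z : Spec (Y.residueField y))
    (x' : X) (hx' : f x' = y) (hs : σ z ⤳ x') : x' = σ z := by
  let σ' : Spec (Y.residueField y) ⟶ f.fiber y := pullback.lift σ (𝟙 _) (by rw [h, Category.id_comp])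
  have hcl : IsClosed ({σ' z} : Set (f.fiber y)) :=
    isClosed_section_point (k := Y.residueField y) (f.fiberToSpecResidueField y) σ' (pullback.lift_snd _ _ _) z
  have hσ : f.fiberι y (σ' z) = σ z := by
    rw [← Scheme.Hom.comp_apply]
    exact congrArg (fun φ : Spec (Y.residueField y) ⟶ X => φ z) (pullback.lift_fst σ (𝟙 _) _)
  obtain ⟨w, hw⟩ : x' ∈ Set.range (f.fiberι y) := by rw [Scheme.Hom.range_fiberι]; exact hx'
  rw [← hw, ← hσ] at hs ⊢
  have := ((f.fiberι y).isEmbedding.isInducing.specializes_iff.1 hs).mem_closed hcl rfl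
  rw [this]

/-- The dimension of the fibre at a point which is closed in it. -/
theorem fibreDimAt_eq {X Y : Scheme.{u}} (f : X ⟶ Y) [LocallyOfFiniteType f] (x : X) (y : Y) (h : f x = y)
    (hcl : ∀ x', f x' = y → x ⤳ x' → x' = x) :
    FlatMor.fibreDimAt f x =
      ringKrullDim (X.presheaf.stalk x ⧸ (maximalIdeal (Y.presheaf.stalk y)).map (sm f x y h)) := by
  subst h
  letI : (f.fiber (f x)).Over (Spec (CommRingCat.of (Y.residueField (f x)))) := ⟨f.fiberToSpecResidueField (f x)⟩
  haveI : LocallyOfFiniteType ((f.fiber (f x)) ↘ Spec (CommRingCat.of (Y.residueField (f x)))) :=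
    inferInstanceAs (LocallyOfFiniteType (f.fiberToSpecResidueField (f x)))
  have hc : IsClosed ({f.asFiber x} : Set (f.fiber (f x))) := by
    refine isClosed_of_closure_subset fun w hw => ?_
    have hsp : f.asFiber x ⤳ w := specializes_iff_mem_closure.2 hw
    have h1 := hsp.map (f.fiberι (f x)).continuous
    rw [f.fiberι_asFiber x] at h1
    refine (f.fiberι (f x)).isEmbedding.injective ?_
    rw [f.fiberι_asFiber x]
    refine hcl _ ?_ h1
    have : f.fiberι (f x) w ∈ Set.range (f.fiberι (f x)) := ⟨w, rfl⟩
    rwa [Scheme.Hom.range_fiberι] at this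
  refine (S1617.result (Y.residueField (f x)) (f.fiber (f x)) (f.asFiber x) hc).trans ?_
  exact (ringKrullDim_eq_of_ringEquiv
    (Triage.CMMor.exists_equiv_fibre_stalk_aux f x (f x) rfl (f.asFiber x) (f.fiberι_asFiber x)).some).symm

theorem maximalIdeal_stalk_field {k : Type u} [Field k] (z : Spec (CommRingCat.of k)) :
    maximalIdeal ((Spec (CommRingCat.of k)).presheaf.stalk z) = ⊥ := by
  let e := (Spec.stalkIso (CommRingCat.of k) z).commRingCatIsoToRingEquiv
  have hbot : z.asIdeal = ⊥ := Ideal.eq_bot_of_prime _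
  have hbij : Function.Bijective (algebraMap k (Localization.AtPrime z.asIdeal)) :=
    (IsLocalization.atUnits k z.asIdeal.primeCompl fun a ha => by
      exact (isUnit_iff_ne_zero.2 fun h => ha (h ▸ z.asIdeal.zero_mem))).bijective
  have hf : IsField (Localization.AtPrime z.asIdeal) :=
    (MulEquiv.isField (Field.toIsField k) ((RingEquiv.ofBijective _ hbij).symm.toMulEquiv))
  replace hf := MulEquiv.isField hf e.toMulEquiv
  exact isField_iff_maximalIdeal_eq.1 hf

/-- The kernel of the stalk map of the inclusion of a point. -/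
theorem ker_sm_fromSpecResidueField {Y : Scheme.{u}} (y : Y) (z : Spec (Y.residueField y))
    (hz : Y.fromSpecResidueField y z = y) :
    RingHom.ker (sm (Y.fromSpecResidueField y) z y hz) = maximalIdeal (Y.presheaf.stalk y) := by
  refine le_antisymm (le_maximalIdeal (RingHom.ker_ne_top _)) fun a ha => ?_
  have h : sm (Y.fromSpecResidueField y) z y hz a ∈ maximalIdeal _ := map_nonunit _ _ ha
  exact (maximalIdeal_stalk_field (k := Y.residueField y) z).le h

end Groth.Agent.GrpdSlice
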