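import Groth.Agent.CMPointLib.Basic
import Groth.Agent.LC.GorLoc

open scoped Pointwise

/-!
# Regular sequences taken from the image of another local ring
-/

set_option autoImplicit false

universe u

open IsLocalRing

namespace Groth.Agent.GrpdSlice

/-- The quotient of a Cohen-Macaulay local ring by a regular element is Cohen-Macaulay. -/
theorem isCMLocal_quotient {R : Type u} [CommRing R] [h : LocCoh.IsCohenMacaulayLocalRing R] {x : R}
    (hx : x ∈ maximalIdeal R) (hreg : IsSMulRegular R x) :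
    LocCoh.IsCohenMacaulayLocalRing (R ⧸ Ideal.span {x}) := by
  haveI : Nontrivial (R ⧸ Ideal.span {x}) := Ideal.Quotient.nontrivial_iff.2 fun e =>
    (maximalIdeal.isMaximal R).ne_top (top_le_iff.1 (e ▸ (Ideal.span_singleton_le_iff_mem _).2 hx))
  haveI : IsLocalRing (R ⧸ Ideal.span {x}) := IsLocalRing.of_surjective' _ Ideal.Quotient.mk_surjective
  refine { supportDim_eq_depth := ?_ }
  have hmax : (maximalIdeal R).map (Ideal.Quotient.mk (Ideal.span {x})) = maximalIdeal (R ⧸ Ideal.span {x}) :=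
    map_maximalIdeal_of_surjective _ Ideal.Quotient.mk_surjective
  have hspan : Ideal.span {x} = x • (⊤ : Ideal R) := by simp [← Submodule.ideal_span_singleton_smul]
  have h2 : LocCoh.idealDepth (maximalIdeal R) (QuotSMulTop x R) =
      LocCoh.depth (R ⧸ Ideal.span {x}) (R ⧸ Ideal.span {x}) := by
    rw [LocCoh.depth, ← hmax, ← LC.idealDepth_quot_self_le]
    exact LC.idealDepth_congr _ (Submodule.quotEquivOfEq _ _ hspan.symm)
  have h3 := h.supportDim_eq_depth
  rw [Module.supportDim_self_eq_ringKrullDim,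
    ← ringKrullDim_quotient_span_singleton_succ_eq_ringKrullDim hreg hx, LocCoh.depth,
    ← LC.idealDepth_quotSMulTop_add_one (maximalIdeal R) (M := R) hx hreg, h2] at h3
  rw [Module.supportDim_self_eq_ringKrullDim]
  refine ENat.WithBot.add_one_cancel.mp ?_
  rw [h3]; rfl

variable {B A : Type u} [CommRing B] [IsLocalRing B] [CommRing A]

/-- A regular element from the maximal ideal of `B` when the extended ideal has positive height. -/
theorem exists_regular [LocCoh.IsCohenMacaulayLocalRing A] (φ : B →+* A)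
    (hJ : (maximalIdeal B).map φ ≤ maximalIdeal A)
    (hlt : ringKrullDim (A ⧸ (maximalIdeal B).map φ) < ringKrullDim A) :
    ∃ b ∈ maximalIdeal B, IsSMulRegular A (φ b) := by
  classical
  set J := (maximalIdeal B).map φ
  have hJtop : J ≠ ⊤ := fun e => (maximalIdeal.isMaximal A).ne_top (top_le_iff.1 (e ▸ hJ))
  have hIM : J • (⊤ : Submodule A A) ≠ ⊤ := LC.smul_top_ne_top_of_le_maximal hJ
  have hht : 1 ≤ J.height := by
    rw [ENat.one_le_iff_ne_zero]
    intro h0
    have := LC.height_add_ringKrullDim_quotient J hJtop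
    rw [h0, WithBot.coe_zero, add_zero] at this
    exact hlt.ne this
  obtain ⟨rs, hrs, hmem, hlen⟩ := LC.exists_idealDepth_eq_length (I := J) (M := A) hIM
  rw [LC.idealDepth_self_eq_height] at hlen
  obtain ⟨r, rs', rfl⟩ := List.exists_cons_of_ne_nil (l := rs) fun e => by
    rw [hlen, e] at hht
    simp at hht
  have hr : IsSMulRegular A r := ((RingTheory.Sequence.isWeaklyRegular_cons_iff A r rs').mp hrs).1
  have hnle : ∀ P ∈ associatedPrimes A A, ¬ J ≤ P := fun P hP hle => by
    have : r ∈ ⋃ p ∈ associatedPrimes A A, (p : Set A) :=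
      Set.mem_iUnion₂.2 ⟨P, hP, hle (hmem r (List.mem_cons_self ..))⟩
    rw [biUnion_associatedPrimes_eq_zero_divisors] at this
    obtain ⟨z, hz, hrz⟩ := this
    exact hz (hr (by show r • z = r • (0 : A); rw [hrz, smul_zero]))
  have hfin := associatedPrimes.finite A A
  obtain ⟨b, hb, hb'⟩ : ∃ b ∈ maximalIdeal B, ∀ P ∈ associatedPrimes A A, φ b ∉ P := by
    by_contra! hcon
    have hsub : ((maximalIdeal B : Ideal B) : Set B) ⊆
        ⋃ P ∈ (hfin.toFinset : Set (Ideal A)), ((P.comap φ : Ideal B) : Set B) := fun b hb => by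
      obtain ⟨P, hP, hbP⟩ := hcon b hb
      exact Set.mem_iUnion₂.2 ⟨P, hfin.mem_toFinset.2 hP, hbP⟩
    obtain ⟨P, hP, hle⟩ := (Ideal.subset_union_prime (⊤ : Ideal A) (⊤ : Ideal A) fun P hP _ _ =>
      haveI := (AssociatedPrimes.mem_iff.mp (hfin.mem_toFinset.1 hP)).isPrime
      Ideal.comap_isPrime φ P).1 hsub
    exact hnle P (hfin.mem_toFinset.1 hP) (Ideal.map_le_iff_le_comap.2 hle)
  refine ⟨b, hb, fun x y hxy => ?_⟩
  by_contra hne
  have : φ b ∈ {r : A | ∃ z : A, z ≠ 0 ∧ r • z = 0} :=
    ⟨x - y, sub_ne_zero.2 hne, by rw [smul_sub]; exact sub_eq_zero.2 hxy⟩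
  rw [← biUnion_associatedPrimes_eq_zero_divisors] at this
  obtain ⟨P, hP, hbP⟩ := Set.mem_iUnion₂.mp this
  exact hb' P hP hbP

/-- One step. -/
theorem exists_step [LocCoh.IsCohenMacaulayLocalRing A] (φ : B →+* A)
    (hJ : (maximalIdeal B).map φ ≤ maximalIdeal A)
    (hlt : ringKrullDim (A ⧸ (maximalIdeal B).map φ) < ringKrullDim A) :
    ∃ b ∈ maximalIdeal B, IsSMulRegular A (φ b) ∧
      LocCoh.IsCohenMacaulayLocalRing (A ⧸ Ideal.span {φ b}) ∧
      ringKrullDim (A ⧸ Ideal.span {φ b}) + 1 = ringKrullDim A := by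
  obtain ⟨b, hb, hreg⟩ := exists_regular φ hJ hlt
  have hm : φ b ∈ maximalIdeal A := hJ (Ideal.mem_map_of_mem φ hb)
  exact ⟨b, hb, hreg, isCMLocal_quotient hm hreg,
    ringKrullDim_quotient_span_singleton_succ_eq_ringKrullDim hreg hm⟩

/-- Cutting all the way down. -/
theorem exists_seq_aux : ∀ (d : ℕ) (A : Type u) [CommRing A] [LocCoh.IsCohenMacaulayLocalRing A]
    (φ : B →+* A), (maximalIdeal B).map φ ≤ maximalIdeal A → ringKrullDim A = d →
    ∃ bs : List B, (∀ b ∈ bs, b ∈ maximalIdeal B) ∧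
      (∀ i (hi : i < bs.length), ∀ z, φ bs[i] * z ∈ Ideal.ofList ((bs.map φ).take i) →
        z ∈ Ideal.ofList ((bs.map φ).take i)) ∧
      LocCoh.IsCohenMacaulayLocalRing (A ⧸ Ideal.ofList (bs.map φ)) ∧
      ringKrullDim (A ⧸ Ideal.ofList (bs.map φ)) = ringKrullDim (A ⧸ (maximalIdeal B).map φ) := by
  intro d
  induction d using Nat.strong_induction_on with
  | _ d ih =>
    intro A _ _ φ hJ hd
    rcases (ringKrullDim_le_of_surjective (Ideal.Quotient.mk ((maximalIdeal B).map φ))
      Ideal.Quotient.mk_surjective).eq_or_lt with heq | hlt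
    · refine ⟨[], by simp, by simp, ?_, ?_⟩
      · rw [List.map_nil, Ideal.ofList_nil]
        haveI : IsLocalRing (A ⧸ (⊥ : Ideal A)) := (RingEquiv.quotientBot A).symm.isLocalRing
        exact LC.Liaison.isCMLocal_of_ringEquiv (RingEquiv.quotientBot A).symm
      · rw [List.map_nil, Ideal.ofList_nil, ringKrullDim_eq_of_ringEquiv (RingEquiv.quotientBot A), heq]
    · obtain ⟨b, hb, hreg, hCM, hdim⟩ := exists_step φ hJ hlt
      set I := Ideal.span {φ b}
      haveI := hCM
      let π := Ideal.Quotient.mk I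
      have hIJ : I ≤ (maximalIdeal B).map φ := (Ideal.span_singleton_le_iff_mem _).2 (Ideal.mem_map_of_mem φ hb)
      have hJ' : (maximalIdeal B).map (π.comp φ) ≤ maximalIdeal (A ⧸ I) := by
        rw [← Ideal.map_map]
        exact (Ideal.map_mono hJ).trans (map_maximalIdeal_of_surjective π Ideal.Quotient.mk_surjective).le
      obtain ⟨d', hd', hdd'⟩ : ∃ d' : ℕ, ringKrullDim (A ⧸ I) = d' ∧ d' < d := by
        rw [hd] at hdim
        rcases e : ringKrullDim (A ⧸ I) with _ | e'
        · rw [e] at hdim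
          exact absurd hdim (by
            show ¬ (⊥ : WithBot ℕ∞) + 1 = _
            rw [WithBot.bot_add]; exact WithBot.bot_ne_coe)
        · rcases e' with _ | n
          · rw [e] at hdim
            exact absurd hdim (by
              show ¬ ((⊤ : ℕ∞) : WithBot ℕ∞) + 1 = _
              rw [← WithBot.coe_one, ← WithBot.coe_add, top_add]
              exact_mod_cast (ENat.natCast_ne_top d).symm)
          · refine ⟨n, rfl, ?_⟩
            rw [e] at hdim
            have : ((n + 1 : ℕ) : WithBot ℕ∞) = (d : WithBot ℕ∞) := by push_cast; exact hdim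
            have : n + 1 = d := by exact_mod_cast this
            omega
      obtain ⟨bs, hbs, hregs, hCMs, hdims⟩ := ih d' hdd' (A ⧸ I) (π.comp φ) hJ' hd'
      have hmap : ∀ l : List B, Ideal.ofList (l.map (π.comp φ)) = (Ideal.ofList ((b :: l).map φ)).map π := by
        intro l
        rw [List.map_cons, Ideal.ofList_cons, Ideal.map_sup, Ideal.map_quotient_self, bot_sup_eq,
          Ideal.map_ofList, List.map_map]
        rfl
      have hle : ∀ l : List B, I ≤ Ideal.ofList ((b :: l).map φ) := fun l => by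
        rw [List.map_cons, Ideal.ofList_cons]; exact le_sup_left
      have e : (A ⧸ I) ⧸ Ideal.ofList (bs.map (π.comp φ)) ≃+* A ⧸ Ideal.ofList ((b :: bs).map φ) :=
        (Ideal.quotEquivOfEq (hmap bs)).trans (DoubleQuot.quotQuotEquivQuotOfLE (hle bs))
      have e' : (A ⧸ I) ⧸ (maximalIdeal B).map (π.comp φ) ≃+* A ⧸ (maximalIdeal B).map φ :=
        (Ideal.quotEquivOfEq (Ideal.map_map φ π).symm).trans (DoubleQuot.quotQuotEquivQuotOfLE hIJ)
      refine ⟨b :: bs, List.forall_mem_cons.2 ⟨hb, hbs⟩, fun i hi z hz => ?_, ?_, ?_⟩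
      · rcases i with _ | i
        · rw [List.take_zero, Ideal.ofList_nil, Ideal.mem_bot] at hz ⊢
          exact hreg (hz.trans (smul_zero (φ b)).symm)
        · have hi' : i < bs.length := by simpa using hi
          have htake : ((b :: bs).map φ).take (i + 1) = (b :: bs.take i).map φ := by
            simp [List.map_take]
          rw [htake] at hz ⊢
          have h1 := Ideal.mem_map_of_mem π hz
          rw [← hmap, map_mul] at h1
          have h2 := hregs i hi' (π z) (by rw [← List.map_take]; exact h1)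
          rw [← List.map_take, hmap] at h2
          rw [Ideal.mem_quotient_iff_mem (hle _)] at h2
          exact h2
      · haveI := hCMs
        haveI : IsLocalRing (A ⧸ Ideal.ofList ((b :: bs).map φ)) := e.isLocalRing
        exact LC.Liaison.isCMLocal_of_ringEquiv e
      · rw [← ringKrullDim_eq_of_ringEquiv e, hdims, ringKrullDim_eq_of_ringEquiv e']

theorem exists_seq [LocCoh.IsCohenMacaulayLocalRing A] (φ : B →+* A)
    (hJ : (maximalIdeal B).map φ ≤ maximalIdeal A) :
    ∃ bs : List B, (∀ b ∈ bs, b ∈ maximalIdeal B) ∧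
      (∀ i (hi : i < bs.length), ∀ z, φ bs[i] * z ∈ Ideal.ofList ((bs.map φ).take i) →
        z ∈ Ideal.ofList ((bs.map φ).take i)) ∧
      LocCoh.IsCohenMacaulayLocalRing (A ⧸ Ideal.ofList (bs.map φ)) ∧
      ringKrullDim (A ⧸ Ideal.ofList (bs.map φ)) = ringKrullDim (A ⧸ (maximalIdeal B).map φ) := by
  obtain ⟨d, hd⟩ : ∃ d : ℕ, ringKrullDim A = d := by
    rcases e : ringKrullDim A with _ | e'
    · exact absurd e (ne_bot_of_le_ne_bot WithBot.zero_ne_bot ringKrullDim_nonneg_of_nontrivial)
    · rcases e' with _ | n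
      · exact absurd e ringKrullDim_ne_top
      · exact ⟨n, rfl⟩
  exact exists_seq_aux d A φ hJ hd

end Groth.Agent.GrpdSlice
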