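import Groth.Agent.GrpdSlice.Closed
import Groth.Agent.GrpdSlice.Alg
import Groth.Agent.Triage.SliceFlatSch
import Groth.Prelude.Def_Grpd

/-!
# A slice at a point
-/

set_option autoImplicit false
set_option backward.isDefEq.respectTransparency false
set_option backward.isDefEq.respectTransparency.types false

universe u

open AlgebraicGeometry CategoryTheory CategoryTheory.Limits IsLocalRing

namespace Groth.Agent.GrpdSlice

open Groth.Agent.FibFlat (sm sm_self sm_comp sm_congr surjective_sm)

/-- Cutting by a sequence which is regular on the fibre keeps flatness. -/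
theorem flat_cut {X S : Scheme.{u}} (f : X ⟶ S) [LocallyOfFinitePresentation f] (x : X) (y : S) (h : f x = y)
    (hflat : (sm f x y h).Flat) (hs : List (X.presheaf.stalk x))
    (hm : ∀ a ∈ hs, a ∈ maximalIdeal (X.presheaf.stalk x))
    (hreg : ∀ i (hi : i < hs.length), ∀ z, hs[i] * z ∈ Ideal.ofList (hs.take i) ⊔
        (maximalIdeal (S.presheaf.stalk y)).map (sm f x y h) →
      z ∈ Ideal.ofList (hs.take i) ⊔ (maximalIdeal (S.presheaf.stalk y)).map (sm f x y h)) :
    ((Ideal.Quotient.mk (Ideal.ofList hs)).comp (sm f x y h)).Flat := by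
  subst h
  rw [sm_self] at hflat hreg ⊢
  obtain ⟨V, hV, U, hU, hx, -, e, hs', hgerm, -, -, hfl⟩ :=
    Triage.SliceFlat.exists_slice_sch f x hflat hs hm hreg ⊤ trivial
  subst hgerm
  let γ := (X.presheaf.germ U x hx).hom
  have hfl' := hfl hs'.length
  rw [List.take_length] at hfl'
  letI := X.presheaf.algebra_section_stalk ⟨x, hx⟩
  haveI := hU.isLocalization_stalk ⟨x, hx⟩
  haveI : Module.Flat Γ(X, U) (X.presheaf.stalk x) :=
    IsLocalization.flat _ (hU.primeIdealOf ⟨x, hx⟩).asIdeal.primeCompl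
  have h1 : (Ideal.quotientMap ((Ideal.ofList hs').map γ) γ Ideal.le_comap_map).Flat :=
    RingHom.flat_algebraMap_iff.2 (Triage.SliceFlat.flat_quotient_map (A := Γ(X, U))
      (T := X.presheaf.stalk x) (Ideal.ofList hs'))
  have h2 := RingHom.Flat.comp hfl' h1
  rw [← Ideal.map_ofList]
  letI := S.presheaf.algebra_section_stalk ⟨f x, e hx⟩
  haveI := hV.isLocalization_stalk ⟨f x, e hx⟩
  let T := X.presheaf.stalk x ⧸ (Ideal.ofList hs').map γ
  let ψ : S.presheaf.stalk (f x) →+* T := (Ideal.Quotient.mk _).comp (f.stalkMap x).hom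
  have hψ : ψ.comp (S.presheaf.germ V (f x) (e hx)).hom =
      ((Ideal.quotientMap ((Ideal.ofList hs').map γ) γ Ideal.le_comap_map).comp
        ((Ideal.Quotient.mk (Ideal.ofList hs')).comp (f.appLE V U e).hom)) := by
    ext r
    show Ideal.Quotient.mk _ ((S.presheaf.germ V (f x) (e hx) ≫ f.stalkMap x).hom r) =
      Ideal.Quotient.mk _ ((f.appLE V U e ≫ X.presheaf.germ U x hx).hom r)
    rw [f.germ_stalkMap, Scheme.Hom.appLE, Category.assoc, X.presheaf.germ_res]
  rw [← hψ] at h2
  letI : Algebra (S.presheaf.stalk (f x)) T := ψ.toAlgebra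
  letI : Algebra Γ(S, V) T := (ψ.comp (S.presheaf.germ V (f x) (e hx)).hom).toAlgebra
  haveI : IsScalarTower Γ(S, V) (S.presheaf.stalk (f x)) T := IsScalarTower.of_algebraMap_eq fun _ => rfl
  haveI : Module.Flat Γ(S, V) T := h2
  exact (Module.flat_iff_of_isLocalization (S.presheaf.stalk (f x))
    (hV.primeIdealOf ⟨f x, e hx⟩).asIdeal.primeCompl T).2 inferInstance

theorem isCMAt_iff {X Y : Scheme.{u}} (f : X ⟶ Y) (x : X) :
    _root_.Grpd.IsCMAt f x ↔ MoreMor.IsCMAt f x :=
  (Triage.CMMor.isCMAt_iff f x).symm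

variable {U R Z : Scheme.{u}} (s t : R ⟶ U) (g : Z ⟶ U) [IsPreimmersion g] [LocallyOfFinitePresentation g]
  [LocallyOfFinitePresentation s]

/-- Properties of the slice `Z ×_U R → U` at a point over `x`. -/
theorem slice_point (u : U) (x : R) (hsx : s x = u) (htx : t x = u) (z : Z) (hz : g z = u)
    (bs : List (U.presheaf.stalk u)) (hker : RingHom.ker (sm g z u hz) = Ideal.ofList bs)
    (hflat : (sm s x u hsx).Flat)
    (hcl : ∀ x', s x' = u → x ⤳ x' → x' = x) (hbs : ∀ b ∈ bs, b ∈ maximalIdeal (U.presheaf.stalk u))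
    (hreg : ∀ i (hi : i < bs.length), ∀ w,
      ((Ideal.Quotient.mk ((maximalIdeal _).map (sm s x u hsx))).comp (sm t x u htx)) bs[i] * w ∈
        Ideal.ofList ((bs.map ((Ideal.Quotient.mk ((maximalIdeal _).map (sm s x u hsx))).comp (sm t x u htx))).take i) →
      w ∈ Ideal.ofList ((bs.map ((Ideal.Quotient.mk ((maximalIdeal _).map (sm s x u hsx))).comp (sm t x u htx))).take i))
    (hCM : LocCoh.IsCohenMacaulayLocalRing ((R.presheaf.stalk x ⧸ (maximalIdeal _).map (sm s x u hsx)) ⧸
      Ideal.ofList (bs.map ((Ideal.Quotient.mk ((maximalIdeal _).map (sm s x u hsx))).comp (sm t x u htx)))))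
    (p : ↥(pullback g t)) (hp₁ : pullback.fst g t p = z) (hp : pullback.snd g t p = x) :
    _root_.Grpd.IsCMAt (pullback.snd g t ≫ s) p ∧
      FlatMor.fibreDimAt (pullback.snd g t ≫ s) p =
        ringKrullDim ((R.presheaf.stalk x ⧸ (maximalIdeal _).map (sm s x u hsx)) ⧸
          Ideal.ofList (bs.map ((Ideal.Quotient.mk ((maximalIdeal _).map (sm s x u hsx))).comp (sm t x u htx)))) := by
  let v := pullback.snd g t
  let h := v ≫ s
  have hhp : h p = u := by rw [Scheme.Hom.comp_apply, hp, hsx]
  haveI : LocallyOfFiniteType h := inferInstanceAs (LocallyOfFiniteType (pullback.snd g t ≫ s))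
  haveI : IsPreimmersion v := MorphismProperty.pullback_snd _ _ inferInstance
  set ms := (maximalIdeal (U.presheaf.stalk u)).map (sm s x u hsx) with hms
  let L := bs.map (sm t x u htx)
  have hkv : RingHom.ker (sm v p x hp) = Ideal.ofList L := by
    subst hp₁
    rw [ker_sm_pullback (IsPullback.of_hasPullback g t) p x u hp htx hz, hker, Ideal.map_ofList]
  have hsurj : Function.Surjective (sm v p x hp) := surjective_sm _ _ _
  have hcomp : sm h p u hhp = (sm v p x hp).comp (sm s x u hsx) := sm_comp v s p x u hp hsx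
  have hL : ∀ i, Ideal.ofList ((bs.map ((Ideal.Quotient.mk ms).comp (sm t x u htx))).take i) =
      (Ideal.ofList (L.take i) ⊔ ms).map (Ideal.Quotient.mk ms) := fun i => by
    rw [Ideal.map_sup, Ideal.map_quotient_self, sup_bot_eq, Ideal.map_ofList, List.map_take, List.map_map]
    rfl
  have hflat' : (sm h p u hhp).Flat := by
    have hm : ∀ a ∈ L, a ∈ maximalIdeal (R.presheaf.stalk x) := fun a ha => by
      obtain ⟨b, hb, rfl⟩ := List.mem_map.1 ha
      exact map_nonunit _ _ (hbs b hb)
    have h1 := flat_cut s x u hsx hflat L hm fun i hi w hw => by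
      have hi' : i < bs.length := by simpa [L] using hi
      have h2 := Ideal.mem_map_of_mem (Ideal.Quotient.mk ms) hw
      rw [← hL, map_mul] at h2
      have h3 := hreg i hi' (Ideal.Quotient.mk ms w) (by simpa [L] using h2)
      rw [hL] at h3
      exact (Ideal.mem_quotient_iff_mem le_sup_right).1 h3
    let e := (Ideal.quotEquivOfEq hkv.symm).trans (RingHom.quotientKerEquivOfSurjective hsurj)
    rw [hcomp, show (sm v p x hp).comp (sm s x u hsx) =
      e.toRingHom.comp ((Ideal.Quotient.mk (Ideal.ofList L)).comp (sm s x u hsx)) from RingHom.ext fun a => rfl]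
    exact RingHom.Flat.comp h1 (RingHom.Flat.of_bijective e.bijective)
  have e₂ : (((R.presheaf.stalk x) ⧸ ms) ⧸ Ideal.ofList (bs.map ((Ideal.Quotient.mk ms).comp (sm t x u htx)))) ≃+*
      ((pullback g t).presheaf.stalk p ⧸ (maximalIdeal (U.presheaf.stalk u)).map (sm h p u hhp)) := by
    have h0 : Ideal.ofList (bs.map ((Ideal.Quotient.mk ms).comp (sm t x u htx))) =
        (Ideal.ofList L ⊔ ms).map (Ideal.Quotient.mk ms) := by
      have := hL L.length
      rw [List.take_length] at this
      rwa [show L.length = (bs.map ((Ideal.Quotient.mk ms).comp (sm t x u htx))).length by simp [L],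
        List.take_length] at this
    have h1 : (maximalIdeal (U.presheaf.stalk u)).map (sm h p u hhp) = ms.map (sm v p x hp) := by
      rw [hcomp, hms, Ideal.map_map]
    refine ((Ideal.quotEquivOfEq h0).trans
      (DoubleQuot.quotQuotEquivQuotOfLE le_sup_right)).trans ?_
    have hker' : Ideal.ofList L ⊔ ms = RingHom.ker
        ((Ideal.Quotient.mk ((maximalIdeal (U.presheaf.stalk u)).map (sm h p u hhp))).comp (sm v p x hp)) := by
      rw [← RingHom.comap_ker, Ideal.mk_ker, h1, Ideal.comap_map_of_surjective _ hsurj,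
        ← RingHom.ker_eq_comap_bot, hkv, sup_comm]
    exact (Ideal.quotEquivOfEq hker').trans
      (RingHom.quotientKerEquivOfSurjective (Ideal.Quotient.mk_surjective.comp hsurj))
  refine ⟨?_, ?_⟩
  · rw [isCMAt_iff, Triage.CMMor.isCMAt_iff_sm h p u hhp]
    exact ⟨hflat', (Triage.CMMor.isCM_congr e₂).1 hCM⟩
  · rw [fibreDimAt_eq h p u hhp fun p' hp' hs' => v.isEmbedding.injective (by
      rw [hp]
      exact hcl (v p') hp' (hp ▸ hs'.map v.continuous))]
    exact (ringKrullDim_eq_of_ringEquiv e₂).symm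

end Groth.Agent.GrpdSlice
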