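import Groth.Agent.GrpdSlice.Stab
import Groth.Agent.GrpdSlice.Point
import Groth.Agent.CMOpen5.Open
import Groth.Agent.S1345
import Groth.Agent.S1347
import Groth.Agent.S7510
import Groth.Agent.GrpSchLib.Loci
import Groth.Agent.GrpdLib.DegDecomp

/-!
# Slices of Cohen–Macaulay groupoids
-/

set_option autoImplicit false
set_option backward.isDefEq.respectTransparency false
set_option backward.isDefEq.respectTransparency.types false

universe u

open AlgebraicGeometry CategoryTheory CategoryTheory.Limits IsLocalRing Grpd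

namespace Groth.Agent.GrpdSlice

open Groth.Agent.FibFlat (sm sm_self sm_comp sm_congr surjective_sm)

variable {S : Scheme.{u}} (G : GroupoidScheme S)

/-- Cutting an affine neighbourhood by finitely many germs. -/
theorem exists_cut {U : Scheme.{u}} (u : U) (bs : List (U.presheaf.stalk u))
    (hbs : ∀ b ∈ bs, b ∈ maximalIdeal (U.presheaf.stalk u)) :
    ∃ (Z : Scheme.{u}) (_ : IsAffine Z) (g : Z ⟶ U) (z : Z) (hz : g z = u), IsImmersion g ∧
      LocallyOfFinitePresentation g ∧ RingHom.ker (sm g z u hz) = Ideal.ofList bs := by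
  obtain ⟨W, hx, hs', hW, -, hgerm⟩ := Triage.SliceFlat.exists_lift_list u bs ⊤ trivial
  subst hgerm
  obtain ⟨z, hz⟩ := Triage.SliceFlat.mem_range_of_germ_mem hW u hx hs'
    fun a ha => hbs _ (List.mem_map.2 ⟨a, ha, rfl⟩)
  haveI : IsClosedImmersion (Spec.map (CommRingCat.ofHom (Ideal.Quotient.mk (Ideal.ofList hs')))) :=
    IsClosedImmersion.spec_of_surjective _ Ideal.Quotient.mk_surjective
  haveI : LocallyOfFinitePresentation (Spec.map (CommRingCat.ofHom (Ideal.Quotient.mk (Ideal.ofList hs')))) := by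
    classical
    rw [LocallyOfFinitePresentation.SpecMap_iff]
    refine RingHom.FinitePresentation.of_surjective _ Ideal.Quotient.mk_surjective ?_
    rw [CommRingCat.hom_ofHom, Ideal.mk_ker]
    exact ⟨hs'.toFinset, by simp [Ideal.ofList]⟩
  refine ⟨_, inferInstance, _, z, hz, inferInstance, inferInstance, ?_⟩
  rw [ker_sm_quotient hW _ z u hx hz, Ideal.map_ofList]

variable [LocallyOfFinitePresentation G.s]

/-- `O_{R,e(u)}` modulo the maximal ideal of `u` along `s`. -/
abbrev FibRing (u : G.U) (hsu : G.s (G.e u) = u) : Type u :=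
  G.R.presheaf.stalk (G.e u) ⧸ (maximalIdeal (G.U.presheaf.stalk u)).map (sm G.s (G.e u) u hsu)

/-- The map to the fibre ring along `t`. -/
noncomputable abbrev fibMap (u : G.U) (hsu : G.s (G.e u) = u) (htu : G.t (G.e u) = u) :
    G.U.presheaf.stalk u →+* FibRing G u hsu :=
  (Ideal.Quotient.mk _).comp (sm G.t (G.e u) u htu)

omit [LocallyOfFinitePresentation G.s] in
theorem s_e (u : G.U) : G.s (G.e u) = u := by
  rw [← Scheme.Hom.comp_apply, G.e_s]; rfl

omit [LocallyOfFinitePresentation G.s] in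
theorem t_e (u : G.U) : G.t (G.e u) = u := by
  rw [← Scheme.Hom.comp_apply, G.e_t]; rfl

theorem hcl_e (u : G.U) (x' : G.R) (hx' : G.s x' = u) (h : G.e u ⤳ x') : x' = G.e u := by
  have h1 : (G.U.fromSpecResidueField u ≫ G.e) (closedPoint _) = G.e u := by
    rw [Scheme.Hom.comp_apply, Scheme.fromSpecResidueField_apply]
  rw [← h1] at h ⊢
  exact eq_of_specializes_of_section G.s u _ (by rw [Category.assoc, G.e_s, Category.comp_id]) _ x' hx' h

variable (u : G.U) (hsu : G.s (G.e u) = u) (htu : G.t (G.e u) = u)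

theorem flat_at (hs : ∀ r, Grpd.IsCMAt G.s r) : (sm G.s (G.e u) u hsu).Flat :=
  ((Triage.CMMor.isCMAt_iff_sm G.s (G.e u) u hsu).1 ((isCMAt_iff _ _).1 (hs _))).1

theorem cm_fibRing (hs : ∀ r, Grpd.IsCMAt G.s r) : LocCoh.IsCohenMacaulayLocalRing (FibRing G u hsu) :=
  ((Triage.CMMor.isCMAt_iff_sm G.s (G.e u) u hsu).1 ((isCMAt_iff _ _).1 (hs _))).2

theorem dim_fibRing : FlatMor.fibreDimAt G.s (G.e u) = ringKrullDim (FibRing G u hsu) :=
  fibreDimAt_eq G.s (G.e u) u hsu (hcl_e G u)

omit [LocallyOfFinitePresentation G.s] in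
theorem map_fibMap_le [IsLocalRing (FibRing G u hsu)] :
    (maximalIdeal _).map (fibMap G u hsu htu) ≤ maximalIdeal (FibRing G u hsu) := by
  refine Ideal.map_le_iff_le_comap.2 fun a ha => ?_
  have h1 := map_nonunit (sm G.t (G.e u) u htu) _ ha
  exact (map_maximalIdeal_of_surjective (Ideal.Quotient.mk ((maximalIdeal _).map (sm G.s (G.e u) u hsu)))
    Ideal.Quotient.mk_surjective).le (Ideal.mem_map_of_mem _ h1)

theorem dim_fibRing_quot (hu : LocallyOfFiniteType (G.U.fromSpecResidueField u)) :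
    ringKrullDim (FibRing G u hsu ⧸ (maximalIdeal _).map (fibMap G u hsu htu)) =
      topologicalKrullDim ↥(G.stabilizerToU.fiber u) := by
  rw [dim_stabilizer_fiber G u hu hsu htu,
    ringKrullDim_eq_of_ringEquiv (Ideal.quotEquivOfEq (sup_comm
      ((maximalIdeal (G.U.presheaf.stalk u)).map (sm G.t (G.e u) u htu)) _))]
  exact ringKrullDim_eq_of_ringEquiv ((Ideal.quotEquivOfEq (Ideal.map_map _ _).symm).trans
    (DoubleQuot.quotQuotEquivQuotSup _ _))

variable {Z : Scheme.{u}} (g : Z ⟶ G.U) [LocallyOfFinitePresentation g] [LocallyOfFinitePresentation G.t]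
  [Flat G.s] [Flat G.t]

/-- The Cohen–Macaulay locus of `h = s ∘ pr₁` comes from an open of the slice. -/
theorem exists_open_CM : ∃ V : Z.Opens, ∀ q : ↥(pullback g G.t),
    pullback.fst g G.t q ∈ V ↔ MoreMor.IsCMAt (pullback.snd g G.t ≫ G.s) q := by
  let P : MorphismProperty Scheme.{u} := fun _ _ f => ∀ x, MoreMor.IsCMAt f x
  have : P.RespectsIso := MorphismProperty.RespectsIso.mk _
    (fun e f hf x => by
      rw [CMOpen5.isCMAt_openImmersion_comp e.hom f x]; exact hf _)
    (fun e f hf x => (CMOpen5.isCMAt_comp_openImmersion f e.hom x).2 (hf x))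
  obtain ⟨V, hV⟩ := S7510.result S G g P @LocallyOfFinitePresentation GrpSchLib.Loci.FL
    (fun _ _ f hf => hf.2)
    (fun {_ _} f hf => ⟨{x | MoreMor.IsCMAt f x}, haveI := hf; CMOpen5.isOpen_isCMAt f⟩)
    (fun {_ _} f hf w => (CMOpen5.isCMAt_openImmersion_comp _ f w).2 w.2)
    (fun {_ _} f hf V hV x hx => (CMOpen5.isCMAt_openImmersion_comp V.ι f ⟨x, hx⟩).1 (hV ⟨x, hx⟩))
    (fun {_ _ _} f hf b hb hf' => by
      haveI := hf
      haveI : Flat b := hb.1
      haveI : LocallyOfFinitePresentation b := hb.2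
      have hN : ∀ y, IsLocallyNoetherian (f.fiber y) := fun y =>
        LocallyOfFiniteType.isLocallyNoetherian (f.fiberToSpecResidueField y)
      ext x
      exact ⟨fun h => S1345.result f hN _ _ b (IsPullback.of_hasPullback f b) x h,
        fun h => S1347.result f hN _ _ b (IsPullback.of_hasPullback f b) x (Flat.stalkMap b _) h⟩)
    ⟨inferInstance, inferInstance⟩ ⟨inferInstance, inferInstance⟩ ‹_› inferInstance
  exact ⟨V, fun q => SetLike.ext_iff.1 hV q⟩

/-- The quasi-finite locus of `h = s ∘ pr₁` comes from an open of the slice. -/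
theorem exists_open_LQ : ∃ V : Z.Opens, ∀ q : ↥(pullback g G.t),
    pullback.fst g G.t q ∈ V ↔ q ∈ GrpSchLib.Loci.loc GrpSchLib.Loci.LQ (pullback.snd g G.t ≫ G.s) := by
  obtain ⟨V, hV⟩ := S7510.result S G g GrpSchLib.Loci.LQ @LocallyOfFinitePresentation GrpSchLib.Loci.FL
    (fun _ _ f hf => hf.2)
    (fun {_ _} f hf => ⟨GrpSchLib.Loci.loc GrpSchLib.Loci.LQ f, GrpSchLib.Loci.isOpen_loc _ _⟩)
    (fun {_ _} f hf => by
      haveI := hf
      refine ⟨GrpSchLib.Loci.of_forall_mem _ _ ?_, inferInstance⟩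
      rintro ⟨x, U, hxU, hU, -⟩
      let M : Scheme.Opens _ := ⟨GrpSchLib.Loci.loc GrpSchLib.Loci.LQ f, GrpSchLib.Loci.isOpen_loc _ _⟩
      refine ⟨M.ι ⁻¹ᵁ U, hxU, ?_⟩
      haveI := hU
      haveI : LocallyQuasiFinite ((M.ι ∣_ U) ≫ U.ι ≫ f) := inferInstance
      rwa [morphismRestrict_ι_assoc] at this)
    (fun {_ _} f hf V hV x hx => ⟨V, hx, hV⟩)
    (fun {_ _ _} f hf b hb hf' => by
      ext x
      exact (GrpSchLib.Loci.compat_LQ _ _ f b (IsPullback.of_hasPullback f b) hb x).symm)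
    ⟨inferInstance, inferInstance⟩ ⟨inferInstance, inferInstance⟩ ‹_› inferInstance
  exact ⟨V, fun q => SetLike.ext_iff.1 hV q⟩

omit [LocallyOfFinitePresentation g] [Flat G.s] [Flat G.t] [LocallyOfFinitePresentation G.s]
  [LocallyOfFinitePresentation G.t] in
/-- The inverse exchanges the two projections of the restriction. -/
theorem exists_swap :
    ∃ σ : pullback (pullback.snd g G.t ≫ G.s) g ⟶ pullback (pullback.snd g G.t ≫ G.s) g, IsIso σ ∧
      σ ≫ pullback.snd (pullback.snd g G.t ≫ G.s) g =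
        pullback.fst (pullback.snd g G.t ≫ G.s) g ≫ pullback.fst g G.t := by
  let X := pullback (pullback.snd g G.t ≫ G.s) g
  let mid : X ⟶ G.R := pullback.fst (pullback.snd g G.t ≫ G.s) g ≫ pullback.snd g G.t
  let a : X ⟶ Z := pullback.fst (pullback.snd g G.t ≫ G.s) g ≫ pullback.fst g G.t
  let b : X ⟶ Z := pullback.snd (pullback.snd g G.t ≫ G.s) g
  have hb : b ≫ g = (mid ≫ G.i) ≫ G.t := by
    simp only [b, mid, Category.assoc, G.i_t]
    exact pullback.condition.symm
  have ha : (mid ≫ G.i) ≫ G.s = a ≫ g := by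
    simp only [a, mid, Category.assoc, G.i_s]
    rw [pullback.condition (f := g) (g := G.t)]
  let σ : X ⟶ X := pullback.lift (pullback.lift b (mid ≫ G.i) hb) a (by
    rw [pullback.lift_snd_assoc]; exact ha)
  have hσσ : σ ≫ σ = 𝟙 X := by
    apply pullback.hom_ext
    · apply pullback.hom_ext
      · simp [σ, a, b]
      · simp [σ, mid, GrpdLib.i_i G]
    · simp [σ, a, b]
  exact ⟨σ, ⟨σ, hσσ, hσσ⟩, pullback.lift_snd _ _ _⟩

end Groth.Agent.GrpdSlice
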