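import Groth.Agent.GrpdSlice.Cut
import Groth.Agent.Triage.SliceCM

/-!
# Maximal slices
-/

set_option autoImplicit false
set_option backward.isDefEq.respectTransparency false
set_option backward.isDefEq.respectTransparency.types false

universe u

open AlgebraicGeometry CategoryTheory CategoryTheory.Limits IsLocalRing Grpd

namespace Groth.Agent.GrpdSlice

open Groth.Agent.FibFlat (sm sm_self sm_comp sm_congr surjective_sm)

variable {S : Scheme.{u}} (G : GroupoidScheme S) [LocallyOfFinitePresentation G.s]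
  [LocallyOfFinitePresentation G.t]

theorem flat_of_forall_isCMAt {X Y : Scheme.{u}} (f : X ⟶ Y) (h : ∀ x, _root_.Grpd.IsCMAt f x) : Flat f :=
  Flat.of_stalkMap _ fun x => (h x).1

omit [LocallyOfFinitePresentation G.s] [LocallyOfFinitePresentation G.t] in
/-- Shrinking a slice. -/
theorem exists_shrink {Z : Scheme.{u}} (g : Z ⟶ G.U) [IsImmersion g] [LocallyOfFinitePresentation g] (u : G.U)
    (z : Z) (hz : g z = u) (bs : List (G.U.presheaf.stalk u)) (hker : RingHom.ker (sm g z u hz) = Ideal.ofList bs)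
    (V : Z.Opens) (hzV : z ∈ V) :
    ∃ (Z' : Scheme.{u}) (_ : IsAffine Z') (g' : Z' ⟶ G.U) (z' : Z') (hz' : g' z' = u),
      IsImmersion g' ∧ LocallyOfFinitePresentation g' ∧ RingHom.ker (sm g' z' u hz') = Ideal.ofList bs ∧
      ∃ j : pullback g' G.t ⟶ pullback g G.t, IsOpenImmersion j ∧
        j ≫ pullback.snd g G.t = pullback.snd g' G.t ∧ ∀ q, pullback.fst g G.t (j q) ∈ V := by
  obtain ⟨W, hW, hzW, hWV⟩ := exists_isAffineOpen_mem_and_subset hzV
  haveI : IsAffine W.toScheme := hW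
  let z' : W.toScheme := ⟨z, hzW⟩
  have hι : W.ι z' = z := rfl
  let j : pullback (W.ι ≫ g) G.t ⟶ pullback g G.t :=
    pullback.lift (pullback.fst _ _ ≫ W.ι) (pullback.snd _ _) (by rw [Category.assoc, pullback.condition])
  have hpb : IsPullback j (pullback.fst (W.ι ≫ g) G.t) (pullback.fst g G.t) W.ι := by
    refine IsPullback.of_right ?_ (pullback.lift_fst _ _ _) (IsPullback.of_hasPullback g G.t).flip
    rw [pullback.lift_snd]
    exact (IsPullback.of_hasPullback (W.ι ≫ g) G.t).flip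
  have : IsOpenImmersion j := MorphismProperty.of_isPullback hpb.flip inferInstance
  refine ⟨W.toScheme, inferInstance, W.ι ≫ g, z', by rw [Scheme.Hom.comp_apply, hι, hz], inferInstance,
    inferInstance, ?_, j, this, pullback.lift_snd _ _ _, fun q => hWV ?_⟩
  · rw [sm_comp W.ι g z' z u hι hz, ← RingHom.comap_ker,
      (RingHom.injective_iff_ker_eq_bot _).1 ?_, ← RingHom.ker_eq_comap_bot, hker]
    have hi : Function.Injective (W.ι.stalkMap z').hom :=
      (ConcreteCategory.bijective_of_isIso (W.ι.stalkMap z')).1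
    rwa [← sm_self] at hi
  · rw [← Scheme.Hom.comp_apply, pullback.lift_fst, Scheme.Hom.comp_apply]
    exact (pullback.fst (W.ι ≫ g) G.t q).2

/-- The restriction to a slice has Cohen–Macaulay structure maps. -/
theorem restriction_CM {Z : Scheme.{u}} (g : Z ⟶ G.U) [LocallyOfFinitePresentation g]
    (hCM : ∀ q, _root_.Grpd.IsCMAt (pullback.snd g G.t ≫ G.s) q) :
    (∀ q, _root_.Grpd.IsCMAt (pullback.snd (pullback.snd g G.t ≫ G.s) g) q) ∧
      LocallyOfFinitePresentation (pullback.snd (pullback.snd g G.t ≫ G.s) g) ∧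
      (∀ q, _root_.Grpd.IsCMAt (pullback.fst (pullback.snd g G.t ≫ G.s) g ≫ pullback.fst g G.t) q) ∧
      LocallyOfFinitePresentation (pullback.fst (pullback.snd g G.t ≫ G.s) g ≫ pullback.fst g G.t) := by
  let h := pullback.snd g G.t ≫ G.s
  haveI : LocallyOfFinitePresentation h :=
    inferInstanceAs (LocallyOfFinitePresentation (pullback.snd g G.t ≫ G.s))
  haveI hb : LocallyOfFinitePresentation (pullback.snd h g) := inferInstance
  have hN : ∀ y, IsLocallyNoetherian (h.fiber y) := fun y =>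
    LocallyOfFiniteType.isLocallyNoetherian (h.fiberToSpecResidueField y)
  have h1 : ∀ q, MoreMor.IsCMAt (pullback.snd h g) q := fun q =>
    S1345.result h hN _ _ g (IsPullback.of_hasPullback h g) q ((isCMAt_iff _ _).1 (hCM _))
  obtain ⟨σ, hσ, hσs⟩ := exists_swap G g
  refine ⟨fun q => (isCMAt_iff _ _).2 (h1 q), hb, fun q => ?_, ?_⟩
  · rw [← hσs, isCMAt_iff, CMOpen5.isCMAt_openImmersion_comp]
    exact h1 _
  · rw [← hσs]
    infer_instance

/-- A slice through a point `u` with `s` Cohen–Macaulay at `e u`, cutting down to the dimension of the stabilizer. -/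
theorem exists_max_of [Flat G.s] [Flat G.t] (u : G.U) (hcm : _root_.Grpd.IsCMAt G.s (G.e u))
    (hu : LocallyOfFiniteType (G.U.fromSpecResidueField u)) :
    ∃ (Z : Scheme.{u}) (_ : IsAffine Z) (g : Z ⟶ G.U) (z : Z) (p : ↥(pullback g G.t)), IsImmersion g ∧
      LocallyOfFinitePresentation g ∧ g z = u ∧ pullback.fst g G.t p = z ∧ pullback.snd g G.t p = G.e u ∧
      (∀ q, _root_.Grpd.IsCMAt (pullback.snd g G.t ≫ G.s) q) ∧
      FlatMor.fibreDimAt (pullback.snd g G.t ≫ G.s) p = topologicalKrullDim ↥(G.stabilizerToU.fiber u) ∧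
      (topologicalKrullDim ↥(G.stabilizerToU.fiber u) = 0 → LocallyQuasiFinite (pullback.snd g G.t ≫ G.s)) := by
  have hsu := s_e G u
  have htu := t_e G u
  obtain ⟨hfl, hcm'⟩ := (Triage.CMMor.isCMAt_iff_sm G.s (G.e u) u hsu).1 ((isCMAt_iff _ _).1 hcm)
  haveI := hcm'
  obtain ⟨bs, hbs, hreg, hCM, hdim⟩ := exists_seq (fibMap G u hsu htu) (map_fibMap_le G u hsu htu)
  rw [dim_fibRing_quot G u hsu htu hu] at hdim
  obtain ⟨Z₀, _, g₀, z₀, hz₀, _, _, hker₀⟩ := exists_cut u bs hbs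
  obtain ⟨V₁, hV₁⟩ := exists_open_CM G g₀
  obtain ⟨p₀, hp₁, hp₂⟩ := Scheme.Pullback.exists_preimage_pullback (f := g₀) (g := G.t) z₀ (G.e u)
    (hz₀.trans htu.symm)
  obtain ⟨hcm₀, hd₀⟩ := slice_point G.s G.t g₀ u (G.e u) hsu htu z₀ hz₀ bs hker₀ hfl
    (hcl_e G u) hbs hreg hCM p₀ hp₁ hp₂
  have hz₁ : z₀ ∈ V₁ := hp₁ ▸ (hV₁ p₀).2 ((isCMAt_iff _ _).1 hcm₀)
  -- quasi-finiteness at the point when the stabilizer is finite
  have hqf₀ : topologicalKrullDim ↥(G.stabilizerToU.fiber u) = 0 →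
      p₀ ∈ GrpSchLib.Loci.loc GrpSchLib.Loci.LQ (pullback.snd g₀ G.t ≫ G.s) := by
    intro h0
    let h := pullback.snd g₀ G.t ≫ G.s
    haveI : LocallyOfFiniteType h := inferInstanceAs (LocallyOfFiniteType (pullback.snd g₀ G.t ≫ G.s))
    haveI : IsPreimmersion (pullback.snd g₀ G.t) := MorphismProperty.pullback_snd _ _ inferInstance
    have hcl : ∀ p', h p' = h p₀ → p₀ ⤳ p' → p' = p₀ := fun p' hp' hsp =>
      (pullback.snd g₀ G.t).isEmbedding.injective (by
        rw [hp₂]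
        exact hcl_e G u _ (hp'.trans (by rw [Scheme.Hom.comp_apply, hp₂, hsu]))
          (hp₂ ▸ hsp.map (pullback.snd g₀ G.t).continuous))
    haveI : IsLocallyNoetherian (h.fiber (h p₀)) :=
      LocallyOfFiniteType.isLocallyNoetherian (h.fiberToSpecResidueField (h p₀))
    have hst : ringKrullDim ((h.fiber (h p₀)).presheaf.stalk (h.asFiber p₀)) = 0 := by
      rw [← ringKrullDim_eq_of_ringEquiv (Triage.CMMor.exists_equiv_fibre_stalk_aux h p₀ (h p₀) rfl
        (h.asFiber p₀) (h.fiberι_asFiber p₀)).some, ← fibreDimAt_eq h p₀ (h p₀) rfl hcl]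
      exact hd₀.trans (hdim.trans h0)
    have hclosed : IsClosed ({h.asFiber p₀} : Set (h.fiber (h p₀))) := by
      refine isClosed_of_closure_subset fun w hw => ?_
      have h1 := (specializes_iff_mem_closure.2 hw).map (h.fiberι (h p₀)).continuous
      rw [h.fiberι_asFiber p₀] at h1
      refine (h.fiberι (h p₀)).isEmbedding.injective ?_
      rw [h.fiberι_asFiber p₀]
      refine hcl _ ?_ h1
      have : h.fiberι (h p₀) w ∈ Set.range (h.fiberι (h p₀)) := ⟨w, rfl⟩
      rwa [Scheme.Hom.range_fiberι] at this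
    have hopen : IsOpen ({h.asFiber p₀} : Set (h.fiber (h p₀))) := by
      refine Triage.SliceCM.isOpen_singleton_of_minimal_scheme _ hclosed fun w hw => ?_
      obtain ⟨a, rfl⟩ : w ∈ Set.range ((h.fiber (h p₀)).fromSpecStalk (h.asFiber p₀)) := by
        rw [Scheme.range_fromSpecStalk]; exact hw
      haveI : Ring.KrullDimLE 0 ((h.fiber (h p₀)).presheaf.stalk (h.asFiber p₀)) :=
        Ring.krullDimLE_iff.2 (by rw [hst]; rfl)
      rw [show a = closedPoint _ from PrimeSpectrum.ext (eq_maximalIdeal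
        (Ideal.IsPrime.isMaximal' a.isPrime)), Scheme.fromSpecStalk_closedPoint]
    have hq : h.QuasiFiniteAt p₀ := Scheme.Hom.quasiFiniteAt_iff_isOpen_singleton_asFiber.2 hopen
    exact ⟨h.quasiFiniteLocus, hq, inferInstance, inferInstance⟩
  obtain ⟨V₂, hV₂⟩ := exists_open_LQ G g₀
  by_cases h0 : topologicalKrullDim ↥(G.stabilizerToU.fiber u) = 0
  · have hz₂ : z₀ ∈ V₂ := hp₁ ▸ (hV₂ p₀).2 (hqf₀ h0)
    obtain ⟨Z, _, g, z, hz, _, _, hker, j, hj, hjs, hjV⟩ :=
      exists_shrink G g₀ u z₀ hz₀ bs hker₀ (V₁ ⊓ V₂) ⟨hz₁, hz₂⟩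
    obtain ⟨p, hp₁', hp₂'⟩ := Scheme.Pullback.exists_preimage_pullback (f := g) (g := G.t) z (G.e u)
      (hz.trans htu.symm)
    refine ⟨Z, inferInstance, g, z, p, inferInstance, inferInstance, hz, hp₁', hp₂', fun q => ?_,
      ((slice_point G.s G.t g u (G.e u) hsu htu z hz bs hker hfl (hcl_e G u) hbs hreg hCM
        p hp₁' hp₂').2).trans hdim, fun _ => ?_⟩
    · rw [isCMAt_iff, show pullback.snd g G.t ≫ G.s = j ≫ pullback.snd g₀ G.t ≫ G.s by
        rw [reassoc_of% hjs], CMOpen5.isCMAt_openImmersion_comp]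
      exact (hV₁ _).1 (hjV q).1
    · rw [show pullback.snd g G.t ≫ G.s = j ≫ pullback.snd g₀ G.t ≫ G.s by rw [reassoc_of% hjs]]
      refine GrpSchLib.Loci.of_forall_mem _ _ fun q => ?_
      obtain ⟨U, hqU, hU, -⟩ := (hV₂ _).1 (hjV q).2
      haveI := hU
      refine ⟨j ⁻¹ᵁ U, hqU, ?_⟩
      have : LocallyQuasiFinite ((j ∣_ U) ≫ U.ι ≫ pullback.snd g₀ G.t ≫ G.s) := inferInstance
      rwa [morphismRestrict_ι_assoc] at this
  · obtain ⟨Z, _, g, z, hz, _, _, hker, j, hj, hjs, hjV⟩ :=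
      exists_shrink G g₀ u z₀ hz₀ bs hker₀ V₁ hz₁
    obtain ⟨p, hp₁', hp₂'⟩ := Scheme.Pullback.exists_preimage_pullback (f := g) (g := G.t) z (G.e u)
      (hz.trans htu.symm)
    refine ⟨Z, inferInstance, g, z, p, inferInstance, inferInstance, hz, hp₁', hp₂', fun q => ?_,
      ((slice_point G.s G.t g u (G.e u) hsu htu z hz bs hker hfl (hcl_e G u) hbs hreg hCM
        p hp₁' hp₂').2).trans hdim, fun h => absurd h h0⟩
    rw [isCMAt_iff, show pullback.snd g G.t ≫ G.s = j ≫ pullback.snd g₀ G.t ≫ G.s by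
      rw [reassoc_of% hjs], CMOpen5.isCMAt_openImmersion_comp]
    exact (hV₁ _).1 (hjV q)

/-- A slice through `u` cutting the fibre of `s` down to the dimension of the stabilizer. -/
theorem exists_max (hs : ∀ r, _root_.Grpd.IsCMAt G.s r) (ht : ∀ r, _root_.Grpd.IsCMAt G.t r) (u : G.U)
    (hu : LocallyOfFiniteType (G.U.fromSpecResidueField u)) :
    ∃ (Z : Scheme.{u}) (_ : IsAffine Z) (g : Z ⟶ G.U) (z : Z) (p : ↥(pullback g G.t)), IsImmersion g ∧
      LocallyOfFinitePresentation g ∧ g z = u ∧ pullback.fst g G.t p = z ∧ pullback.snd g G.t p = G.e u ∧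
      (∀ q, _root_.Grpd.IsCMAt (pullback.snd g G.t ≫ G.s) q) ∧
      FlatMor.fibreDimAt (pullback.snd g G.t ≫ G.s) p = topologicalKrullDim ↥(G.stabilizerToU.fiber u) ∧
      (topologicalKrullDim ↥(G.stabilizerToU.fiber u) = 0 → LocallyQuasiFinite (pullback.snd g G.t ≫ G.s)) := by
  haveI := flat_of_forall_isCMAt G.s hs
  haveI := flat_of_forall_isCMAt G.t ht
  exact exists_max_of G u (hs _) hu

/-- One cut. -/
theorem exists_one (hs : ∀ r, _root_.Grpd.IsCMAt G.s r) (u : G.U)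
    (hu : LocallyOfFiniteType (G.U.fromSpecResidueField u))
    (hd : topologicalKrullDim ↥(G.stabilizerToU.fiber u) < FlatMor.fibreDimAt G.s (G.e u)) :
    ∃ (Z : Scheme.{u}) (_ : IsAffine Z) (g : Z ⟶ G.U) (z : Z) (p : ↥(pullback g G.t)), IsImmersion g ∧
      LocallyOfFinitePresentation g ∧ g z = u ∧ pullback.fst g G.t p = z ∧ pullback.snd g G.t p = G.e u ∧
      _root_.Grpd.IsCMAt (pullback.snd g G.t ≫ G.s) p ∧
      FlatMor.fibreDimAt (pullback.snd g G.t ≫ G.s) p + 1 = FlatMor.fibreDimAt G.s (G.e u) := by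
  have hsu := s_e G u
  have htu := t_e G u
  haveI := cm_fibRing G u hsu hs
  rw [dim_fibRing G u hsu, ← dim_fibRing_quot G u hsu htu hu] at hd
  rw [dim_fibRing G u hsu]
  obtain ⟨b, hb, hreg, hCM, hdim⟩ := exists_step (fibMap G u hsu htu) (map_fibMap_le G u hsu htu) hd
  have hI : Ideal.ofList (([b] : List _).map (fibMap G u hsu htu)) = Ideal.span {fibMap G u hsu htu b} := by
    rw [List.map_singleton, Ideal.ofList_singleton]
  obtain ⟨Z, _, g, z, hz, _, _, hker⟩ := exists_cut u [b] (by simpa using hb)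
  obtain ⟨p, hp₁, hp₂⟩ := Scheme.Pullback.exists_preimage_pullback (f := g) (g := G.t) z (G.e u)
    (hz.trans htu.symm)
  obtain ⟨h1, h2⟩ := slice_point G.s G.t g u (G.e u) hsu htu z hz [b] hker (flat_at G u hsu hs) (hcl_e G u)
    (by simpa using hb) (fun i hi w hw => by
      obtain rfl : i = 0 := by simpa using hi
      rw [List.take_zero, Ideal.ofList_nil, Ideal.mem_bot] at hw ⊢
      exact hreg (hw.trans (smul_zero _).symm))
    ((Triage.CMMor.isCM_congr (Ideal.quotEquivOfEq hI)).2 hCM) p hp₁ hp₂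
  refine ⟨Z, inferInstance, g, z, p, inferInstance, inferInstance, hz, hp₁, hp₂, h1, ?_⟩
  rw [h2, ringKrullDim_eq_of_ringEquiv (Ideal.quotEquivOfEq hI), hdim]

end Groth.Agent.GrpdSlice
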