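import Groth.Agent.GrpdSlice.Closed
import Groth.Agent.GrpdFld.Translate
import Groth.Agent.GrpdFld.Dim
import Groth.Agent.GrpdLib.DegDecomp

/-!
# The dimension of the stabilizer as the dimension of a quotient of the local ring at the identity
-/

set_option autoImplicit false
set_option backward.isDefEq.respectTransparency false
set_option backward.isDefEq.respectTransparency.types false

universe u

open AlgebraicGeometry CategoryTheory CategoryTheory.Limits IsLocalRing Grpd

namespace Groth.Agent.GrpdSlice

open Groth.Agent.FibFlat (sm sm_self sm_comp sm_congr surjective_sm)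
open Groth.Agent.GrpdLib

/-- Two successive surjections with known kernels. -/
theorem ringKrullDim_two_step {A B C : Type u} [CommRing A] [CommRing B] [CommRing C] (a : A →+* B)
    (b : B →+* C) (ha : Function.Surjective a) (hb : Function.Surjective b) (I J : Ideal A)
    (hI : RingHom.ker a = I) (hJ : RingHom.ker b = J.map a) :
    ringKrullDim C = ringKrullDim (A ⧸ (I ⊔ J)) := by
  have hker : RingHom.ker (b.comp a) = I ⊔ J := by
    rw [← RingHom.comap_ker, hJ, Ideal.comap_map_of_surjective _ ha, ← RingHom.ker_eq_comap_bot, hI,
      sup_comm]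
  exact ((ringKrullDim_eq_of_ringEquiv (Ideal.quotEquivOfEq hker.symm)).trans
    (ringKrullDim_eq_of_ringEquiv
      (RingHom.quotientKerEquivOfSurjective (f := b.comp a) (hb.comp ha)))).symm

variable {S : Scheme.{u}} (G : GroupoidScheme S)

/-- The stabilizer of the pulled back groupoid is the base change of the stabilizer. -/
theorem exists_homeomorph_stabilizer {U' : Scheme.{u}} (g : U' ⟶ G.U) :
    Nonempty ((pullBackGrpd G g).stabilizer ≅ pullback G.stabilizerToU g) := by
  let G' := pullBackGrpd G g
  let P := pullback G'.j G'.diag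
  let Q := pullback G.stabilizerToU g
  have hPt : pullback.fst G'.j G'.diag ≫ pbT G g = pullback.snd G'.j G'.diag := by
    have h := congrArg (fun k => k ≫ pullback.fst G'.pU G'.pU) (pullback.condition (f := G'.j) (g := G'.diag))
    simp only [GroupoidScheme.j, GroupoidScheme.diag, Category.assoc, pullback.lift_fst] at h
    exact h.trans (Category.comp_id _)
  have hPs : pullback.fst G'.j G'.diag ≫ pbS G g = pullback.snd G'.j G'.diag := by
    have h := congrArg (fun k => k ≫ pullback.snd G'.pU G'.pU) (pullback.condition (f := G'.j) (g := G'.diag))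
    simp only [GroupoidScheme.j, GroupoidScheme.diag, Category.assoc, pullback.lift_snd] at h
    exact h.trans (Category.comp_id _)
  have hSt : pullback.fst G.j G.diag ≫ G.t = G.stabilizerToU := by
    have h := congrArg (fun k => k ≫ pullback.fst G.pU G.pU) (pullback.condition (f := G.j) (g := G.diag))
    simp only [GroupoidScheme.j, GroupoidScheme.diag, Category.assoc, pullback.lift_fst] at h
    exact h.trans (Category.comp_id _)
  have hSs : pullback.fst G.j G.diag ≫ G.s = G.stabilizerToU := by
    have h := congrArg (fun k => k ≫ pullback.snd G.pU G.pU) (pullback.condition (f := G.j) (g := G.diag))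
    simp only [GroupoidScheme.j, GroupoidScheme.diag, Category.assoc, pullback.lift_snd] at h
    exact h.trans (Category.comp_id _)
  let a : P ⟶ U' := pullback.snd G'.j G'.diag
  let r : P ⟶ G.R := pullback.fst G'.j G'.diag ≫ pbMid G g
  have hr : r ≫ G.j = (a ≫ g) ≫ G.diag := by
    apply pullback.hom_ext
    · simp only [GroupoidScheme.j, GroupoidScheme.diag, Category.assoc, pullback.lift_fst, Category.comp_id]
      simp only [r, a, Category.assoc, pbMid_t]
      rw [reassoc_of% hPt]
    · simp only [GroupoidScheme.j, GroupoidScheme.diag, Category.assoc, pullback.lift_snd, Category.comp_id]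
      simp only [r, a, Category.assoc, pbMid_s]
      rw [reassoc_of% hPs]
  let to' : P ⟶ Q := pullback.lift (pullback.lift r (a ≫ g) hr) a (pullback.lift_snd _ _ _)
  let b : Q ⟶ U' := pullback.snd G.stabilizerToU g
  let r' : Q ⟶ G.R := pullback.fst G.stabilizerToU g ≫ pullback.fst G.j G.diag
  let m : Q ⟶ G'.R := pbMk G g r' b b
    (by simp only [r', b, Category.assoc, hSt, pullback.condition])
    (by simp only [r', b, Category.assoc, hSs, pullback.condition])
  have hm : m ≫ G'.j = b ≫ G'.diag := by
    apply pullback.hom_ext
    · simp only [GroupoidScheme.j, GroupoidScheme.diag, Category.assoc, pullback.lift_fst]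
      exact (pbMk_t ..).trans (Category.comp_id _).symm
    · simp only [GroupoidScheme.j, GroupoidScheme.diag, Category.assoc, pullback.lift_snd]
      exact (pbMk_s ..).trans (Category.comp_id _).symm
  let from' : Q ⟶ P := pullback.lift m b hm
  refine ⟨⟨to', from', ?_, ?_⟩⟩
  · apply pullback.hom_ext
    · rw [Category.assoc, pullback.lift_fst, Category.id_comp]
      apply pb_hom_ext G g
      · rw [Category.assoc, pbMk_mid]
        simp only [to', r', pullback.lift_fst_assoc, pullback.lift_fst]
        rfl
      · rw [Category.assoc, pbMk_t]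
        simp only [to', b, pullback.lift_snd]
        exact hPt.symm
      · rw [Category.assoc, pbMk_s]
        simp only [to', b, pullback.lift_snd]
        exact hPs.symm
    · rw [Category.assoc, pullback.lift_snd, Category.id_comp]
      exact pullback.lift_snd _ _ _
  · apply pullback.hom_ext
    · rw [Category.assoc, pullback.lift_fst, Category.id_comp]
      apply pullback.hom_ext
      · rw [Category.assoc, pullback.lift_fst]
        simp only [from', r, pullback.lift_fst_assoc]
        exact pbMk_mid ..
      · rw [Category.assoc, pullback.lift_snd]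
        simp only [from', a, pullback.lift_snd_assoc]
        exact pullback.condition.symm
    · rw [Category.assoc, pullback.lift_snd, Category.id_comp]
      simp only [from', a, pullback.lift_snd]
      rfl

variable [LocallyOfFiniteType G.s]

/-- `dim G_u` is the dimension of the local ring at `e(u)` cut by both maximal ideals at `u`. -/
theorem dim_stabilizer_fiber (u : G.U) (hu : LocallyOfFiniteType (G.U.fromSpecResidueField u)) (hsu : G.s (G.e u) = u)
    (htu : G.t (G.e u) = u) :
    topologicalKrullDim ↥(G.stabilizerToU.fiber u) =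
      ringKrullDim (G.R.presheaf.stalk (G.e u) ⧸ ((maximalIdeal _).map (sm G.t (G.e u) u htu) ⊔
        (maximalIdeal _).map (sm G.s (G.e u) u hsu))) := by
  haveI := hu
  let g := G.U.fromSpecResidueField u
  let G' := pullBackGrpd G g
  haveI : LocallyOfFiniteType (srcMap G g) := by
    show LocallyOfFiniteType (pullback.fst G.t g ≫ G.s)
    infer_instance
  haveI hs' : LocallyOfFiniteType G'.s :=
    inferInstanceAs (LocallyOfFiniteType (pullback.snd (srcMap G g) g))
  haveI : IsIso G'.i := ⟨G'.i, i_i G', i_i G'⟩
  haveI ht' : LocallyOfFiniteType G'.t := by rw [← G'.i_s]; infer_instance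
  let z : Spec (G.U.residueField u) := closedPoint _
  have hgz : g z = u := Scheme.fromSpecResidueField_apply u z
  let x' : G'.R := G'.e z
  have hcl : IsClosed ({x'} : Set G'.R) :=
    isClosed_section_point (k := G.U.residueField u) G'.s G'.e G'.e_s z
  obtain ⟨e⟩ := exists_homeomorph_stabilizer G g
  have h1 : topologicalKrullDim ↥(G.stabilizerToU.fiber u) = ringKrullDim (G'.R.presheaf.stalk x') := by
    rw [GrpdFld.ringKrullDim_stalk_eq G' (G.U.residueField u) (Iso.refl _) hcl,
      GrpdFld.dim_stabilizer G' (G.U.residueField u) (Iso.refl _)]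
    exact (IsHomeomorph.topologicalKrullDim_eq e.hom.homeomorph e.hom.homeomorph.isHomeomorph).symm
  rw [h1]
  clear h1 hcl
  suffices H : ∀ x₁ : ↥(pullback (srcMap G g) g), pbMid G g x₁ = G.e u →
      ringKrullDim ((pullback (srcMap G g) g).presheaf.stalk x₁) =
      ringKrullDim (G.R.presheaf.stalk (G.e u) ⧸ ((maximalIdeal _).map (sm G.t (G.e u) u htu) ⊔
        (maximalIdeal _).map (sm G.s (G.e u) u hsu))) by
    refine H x' ?_
    show (pbMid G g) (pbE G g z) = G.e u
    rw [← Scheme.Hom.comp_apply, pbE_mid, Scheme.Hom.comp_apply, hgz]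
  intro x₁ hx₁
  -- the stalk of the restricted groupoid
  let f₁ : pullback (srcMap G g) g ⟶ pullback G.t g := pullback.fst (srcMap G g) g
  let f₀ : pullback G.t g ⟶ G.R := pullback.fst G.t g
  let y₁ : ↥(pullback G.t g) := f₁ x₁
  have hy₀ : f₀ y₁ = G.e u := hx₁
  have hk0 : RingHom.ker (sm f₀ y₁ (G.e u) hy₀) = (maximalIdeal _).map (sm G.t (G.e u) u htu) := by
    rw [ker_sm_pullback (q := pullback.snd G.t g) (IsPullback.of_hasPullback G.t g).flip y₁ (G.e u) u hy₀ htu
      (by rw [← Scheme.Hom.comp_apply, ← pullback.condition, Scheme.Hom.comp_apply, hy₀, htu]),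
      ker_sm_fromSpecResidueField]
  have hsy : srcMap G g y₁ = u := by
    rw [srcMap, Scheme.Hom.comp_apply, hy₀, hsu]
  have hk1 : RingHom.ker (sm f₁ x₁ y₁ rfl) =
      ((maximalIdeal _).map (sm G.s (G.e u) u hsu)).map (sm f₀ y₁ (G.e u) hy₀) := by
    rw [ker_sm_pullback (q := pullback.snd (srcMap G g) g) (IsPullback.of_hasPullback (srcMap G g) g).flip x₁ y₁ u
      rfl hsy (by rw [← Scheme.Hom.comp_apply, ← pullback.condition, Scheme.Hom.comp_apply]; exact hsy),
      ker_sm_fromSpecResidueField, Ideal.map_map, ← sm_comp f₀ G.s y₁ (G.e u) u hy₀ hsu]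
    rfl
  haveI : IsPreimmersion f₀ := MorphismProperty.pullback_fst _ _ inferInstance
  haveI : IsPreimmersion f₁ := MorphismProperty.pullback_fst _ _ inferInstance
  exact ringKrullDim_two_step _ _ (surjective_sm _ _ hy₀) (surjective_sm _ _ _) _ _ hk0 hk1

end Groth.Agent.GrpdSlice
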