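import Groth.Agent.FibFlat.Stalk
import Groth.Agent.H23.GysinPb

/-!
# The ideal in stalks of the base change of a subscheme
-/

set_option autoImplicit false
set_option backward.isDefEq.respectTransparency false
set_option backward.isDefEq.respectTransparency.types false

universe u

open AlgebraicGeometry CategoryTheory CategoryTheory.Limits IsLocalRing

namespace Groth.Agent.GrpdSlice

open Groth.Agent.FibFlat (sm sm_self sm_comp sm_congr surjective_sm)

theorem sm_fromSpecStalk {X Y : Scheme.{u}} (f : X ⟶ Y) (x : X) (y : Y) (h : f x = y) :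
    Spec.map (CommRingCat.ofHom (sm f x y h)) ≫ Y.fromSpecStalk y = X.fromSpecStalk x ≫ f := by
  subst h
  rw [sm_self]
  exact Scheme.SpecMap_stalkMap_fromSpecStalk f

theorem exists_factor {P : Scheme.{u}} {R : CommRingCat.{u}} [IsLocalRing R] (l : Spec R ⟶ P) {z : P}
    (hz : l (closedPoint R) = z) : ∃ χ : P.presheaf.stalk z ⟶ R, l = Spec.map χ ≫ P.fromSpecStalk z :=
  H23.GysinPb.exists_fromSpecStalk l hz

theorem ker_sm_pullback {P Z X U : Scheme.{u}} {q : P ⟶ Z} {v : P ⟶ X} {i : Z ⟶ U} {f : X ⟶ U}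
    (h : IsPullback q v i f) [IsPreimmersion i] (z : P) (x : X) (y : U) (hv : v z = x) (hf : f x = y)
    (hi : i (q z) = y) :
    RingHom.ker (sm v z x hv) = (RingHom.ker (sm i (q z) y hi)).map (sm f x y hf) := by
  haveI : IsPreimmersion v := MorphismProperty.of_isPullback h inferInstance
  set I : Ideal (X.presheaf.stalk x) := (RingHom.ker (sm i (q z) y hi)).map (sm f x y hf) with hIdef
  refine le_antisymm ?_ ?_
  · by_cases hI : I = ⊤
    · exact le_top.trans hI.ge
    let R : CommRingCat.{u} := CommRingCat.of (X.presheaf.stalk x ⧸ I)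
    haveI : Nontrivial R := Ideal.Quotient.nontrivial_iff.2 hI
    haveI : IsLocalRing R := IsLocalRing.of_surjective' _ (Ideal.Quotient.mk_surjective (I := I))
    let π : X.presheaf.stalk x ⟶ R := CommRingCat.ofHom (Ideal.Quotient.mk I)
    haveI : IsLocalHom π.hom := IsLocalHom.of_surjective _ Ideal.Quotient.mk_surjective
    let ψ : Z.presheaf.stalk (q z) ⟶ R := CommRingCat.ofHom ((sm i (q z) y hi).liftOfSurjective
      (surjective_sm _ _ hi) ⟨(Ideal.Quotient.mk I).comp (sm f x y hf), fun a ha =>
        Ideal.Quotient.eq_zero_iff_mem.2 (Ideal.mem_map_of_mem _ ha)⟩)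
    have hψ : CommRingCat.ofHom (sm i (q z) y hi) ≫ ψ = CommRingCat.ofHom (sm f x y hf) ≫ π :=
      CommRingCat.hom_ext (RingHom.liftOfRightInverse_comp _ _ _ _)
    let a : Spec R ⟶ X := Spec.map π ≫ X.fromSpecStalk x
    let b : Spec R ⟶ Z := Spec.map ψ ≫ Z.fromSpecStalk (q z)
    have hab : b ≫ i = a ≫ f := by
      simp only [a, b, Category.assoc, ← sm_fromSpecStalk i (q z) y hi, ← sm_fromSpecStalk f x y hf]
      simp only [← Category.assoc, ← Spec.map_comp, hψ]
    let l : Spec R ⟶ P := h.lift b a hab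
    have hla : l ≫ v = a := h.lift_snd b a hab
    have hlz : l (closedPoint R) = z := by
      refine v.isEmbedding.injective ?_
      rw [← Scheme.Hom.comp_apply, hla, hv]
      show X.fromSpecStalk x (Spec.map π (closedPoint R)) = x
      rw [show Spec.map π (closedPoint R) = closedPoint (X.presheaf.stalk x) from comap_closedPoint π.hom,
        Scheme.fromSpecStalk_closedPoint]
    obtain ⟨χ, hχ⟩ := exists_factor l hlz
    have h1 : Spec.map (CommRingCat.ofHom (sm v z x hv) ≫ χ) = Spec.map π := by
      rw [← cancel_mono (X.fromSpecStalk x), Spec.map_comp, Category.assoc, sm_fromSpecStalk,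
        ← Category.assoc, ← hχ, hla]
    intro t ht
    refine Ideal.Quotient.eq_zero_iff_mem.1 ?_
    refine (congrArg (fun g : X.presheaf.stalk x ⟶ R => g.hom t) (Spec.map_injective h1)).symm.trans ?_
    show χ.hom (sm v z x hv t) = 0
    rw [show sm v z x hv t = 0 from ht, map_zero]
  · rw [hIdef, Ideal.map_le_iff_le_comap]
    intro a ha
    show (sm v z x hv).comp (sm f x y hf) a = 0
    rw [← sm_comp v f z x y hv hf, sm_congr h.w.symm, sm_comp q i z (q z) y rfl hi, RingHom.comp_apply,
      show sm i (q z) y hi a = 0 from ha, map_zero]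

/-- The ideal in the stalk of the closed subscheme of an affine open defined by an ideal. -/
theorem ker_sm_quotient {U : Scheme.{u}} {W : U.Opens} (hW : IsAffineOpen W) (I : Ideal Γ(U, W))
    (z : Spec (CommRingCat.of (Γ(U, W) ⧸ I))) (y : U) (hy : y ∈ W)
    (hz : (Spec.map (CommRingCat.ofHom (Ideal.Quotient.mk I)) ≫ hW.fromSpec) z = y) :
    RingHom.ker (sm (Spec.map (CommRingCat.ofHom (Ideal.Quotient.mk I)) ≫ hW.fromSpec) z y hz) =
      I.map (U.presheaf.germ W y hy).hom := by
  let Q := CommRingCat.of (Γ(U, W) ⧸ I)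
  let mkI : Γ(U, W) ⟶ Q := CommRingCat.ofHom (Ideal.Quotient.mk I)
  let g : Spec Q ⟶ U := Spec.map mkI ≫ hW.fromSpec
  haveI : IsClosedImmersion (Spec.map mkI) :=
    IsClosedImmersion.spec_of_surjective _ Ideal.Quotient.mk_surjective
  obtain ⟨τ, hτ⟩ := Spec.map_surjective ((Spec Q).fromSpecStalk z)
  have hfac : U.fromSpecStalk y = Spec.map (U.presheaf.germ W y hy) ≫ hW.fromSpec :=
    (hW.fromSpecStalk_eq_fromSpecStalk hy).symm
  have key : U.presheaf.germ W y hy ≫ CommRingCat.ofHom (sm g z y hz) = mkI ≫ τ := by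
    apply Spec.map_injective
    rw [← cancel_mono hW.fromSpec, Spec.map_comp, Spec.map_comp, Category.assoc, Category.assoc, hτ,
      ← hfac, sm_fromSpecStalk]
  refine le_antisymm ?_ ?_
  · set J : Ideal (U.presheaf.stalk y) := I.map (U.presheaf.germ W y hy).hom
    by_cases hJ : J = ⊤
    · exact le_top.trans hJ.ge
    let R : CommRingCat.{u} := CommRingCat.of (U.presheaf.stalk y ⧸ J)
    haveI : Nontrivial R := Ideal.Quotient.nontrivial_iff.2 hJ
    haveI : IsLocalRing R := IsLocalRing.of_surjective' _ (Ideal.Quotient.mk_surjective (I := J))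
    let π : U.presheaf.stalk y ⟶ R := CommRingCat.ofHom (Ideal.Quotient.mk J)
    haveI : IsLocalHom π.hom := IsLocalHom.of_surjective _ Ideal.Quotient.mk_surjective
    let ψ : Q ⟶ R := CommRingCat.ofHom (Ideal.Quotient.lift I
      ((Ideal.Quotient.mk J).comp (U.presheaf.germ W y hy).hom) fun a ha =>
        Ideal.Quotient.eq_zero_iff_mem.2 (Ideal.mem_map_of_mem _ ha))
    have hψ : mkI ≫ ψ = U.presheaf.germ W y hy ≫ π := CommRingCat.hom_ext (RingHom.ext fun a => rfl)
    have hla : Spec.map ψ ≫ g = Spec.map π ≫ U.fromSpecStalk y := by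
      rw [hfac, ← Category.assoc, ← Spec.map_comp, hψ, Spec.map_comp, Category.assoc]
    have hlz : Spec.map ψ (closedPoint R) = z := by
      refine g.isEmbedding.injective ?_
      rw [hz, ← Scheme.Hom.comp_apply, hla]
      show U.fromSpecStalk y (Spec.map π (closedPoint R)) = y
      rw [show Spec.map π (closedPoint R) = closedPoint (U.presheaf.stalk y) from comap_closedPoint π.hom,
        Scheme.fromSpecStalk_closedPoint]
    obtain ⟨χ, hχ⟩ := exists_factor (Spec.map ψ) hlz
    have h1 : Spec.map (CommRingCat.ofHom (sm g z y hz) ≫ χ) = Spec.map π := by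
      rw [← cancel_mono (U.fromSpecStalk y), Spec.map_comp, Category.assoc, sm_fromSpecStalk,
        ← Category.assoc, ← hχ, hla]
    intro t ht
    refine Ideal.Quotient.eq_zero_iff_mem.1 ?_
    refine (congrArg (fun k : U.presheaf.stalk y ⟶ R => k.hom t) (Spec.map_injective h1)).symm.trans ?_
    show χ.hom (sm g z y hz t) = 0
    rw [show sm g z y hz t = 0 from ht, map_zero]
  · rw [Ideal.map_le_iff_le_comap]
    intro a ha
    show sm g z y hz ((U.presheaf.germ W y hy).hom a) = 0
    refine (congrArg (fun k => k.hom a) key).trans ?_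
    show τ.hom (Ideal.Quotient.mk I a) = 0
    rw [Ideal.Quotient.eq_zero_iff_mem.2 ha, map_zero]

end Groth.Agent.GrpdSlice
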